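import Mathlib
import Groth.Prelude.Def_DCoh3
import Groth.Prelude.Def_CxOX

/-!
# Composition of exact functors on derived categories; composition of derived restrictions
-/

set_option autoImplicit false
universe u w₁ w₂ w₃ v₁ v₂ v₃ u₁ u₂ u₃
open CategoryTheory CategoryTheory.Limits

namespace Groth.Agent.H33.Glue

section general

variable {C₁ : Type u₁} [Category.{v₁} C₁] [Abelian C₁] [HasDerivedCategory.{w₁} C₁]
  {C₂ : Type u₂} [Category.{v₂} C₂] [Abelian C₂] [HasDerivedCategory.{w₂} C₂]
  {C₃ : Type u₃} [Category.{v₃} C₃] [Abelian C₃] [HasDerivedCategory.{w₃} C₃]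
  (F : C₁ ⥤ C₂) [F.Additive] [PreservesFiniteLimits F] [PreservesFiniteColimits F]
  (G : C₂ ⥤ C₃) [G.Additive] [PreservesFiniteLimits G] [PreservesFiniteColimits G]
  (H : C₁ ⥤ C₃) [H.Additive] [PreservesFiniteLimits H] [PreservesFiniteColimits H]

/-- the composition of the induced functors on derived categories lifts the composition of the
functors on complexes -/
noncomputable def compLifting :
    Localization.Lifting DerivedCategory.Q
      (HomologicalComplex.quasiIso C₁ (ComplexShape.up ℤ))
      ((F.mapHomologicalComplex (ComplexShape.up ℤ) ⋙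
        G.mapHomologicalComplex (ComplexShape.up ℤ)) ⋙ DerivedCategory.Q)
      (F.mapDerivedCategory ⋙ G.mapDerivedCategory) :=
  ⟨(Functor.associator _ _ _).symm ≪≫
    Functor.isoWhiskerRight F.mapDerivedCategoryFactors G.mapDerivedCategory ≪≫
    Functor.associator _ _ _ ≪≫
    Functor.isoWhiskerLeft _ G.mapDerivedCategoryFactors ≪≫
    (Functor.associator _ _ _).symm⟩

/-- `F ⋙ G ≅ H` induces an isomorphism on derived categories -/
noncomputable def mapDerivedCategoryCompIso (e : F ⋙ G ≅ H) :
    F.mapDerivedCategory ⋙ G.mapDerivedCategory ≅ H.mapDerivedCategory :=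
  letI := compLifting F G
  Localization.liftNatIso DerivedCategory.Q
    (HomologicalComplex.quasiIso C₁ (ComplexShape.up ℤ)) _ _ _ _
    (Functor.isoWhiskerRight (Functor.mapHomologicalComplexCompIso e (ComplexShape.up ℤ))
      DerivedCategory.Q)

end general

section schemes

open AlgebraicGeometry

attribute [local instance] HasDerivedCategory.standard

variable {W U X : Scheme.{u}}

/-- `(K|_U)|_W ≅ K|_W` in derived categories -/
noncomputable def restrictDComp (g : W ⟶ U) (j : U ⟶ X) [IsOpenImmersion g] [IsOpenImmersion j] :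
    DCoh.restrictD (g ≫ j) ≅ DCoh.restrictD j ⋙ DCoh.restrictD g :=
  (mapDerivedCategoryCompIso (Scheme.Modules.restrictFunctor j)
    (Scheme.Modules.restrictFunctor g) (Scheme.Modules.restrictFunctor (g ≫ j))
    (Scheme.Modules.restrictFunctorComp g j).symm).symm

lemma nonempty_restrictD_iso_of_eq {f g : U ⟶ X} (h : f = g) [IsOpenImmersion f]
    [IsOpenImmersion g] : Nonempty (DCoh.restrictD f ≅ DCoh.restrictD g) := by
  subst h
  exact ⟨Iso.refl _⟩

lemma nonempty_restrictD_iso_of_fac (g : W ⟶ U) (j : U ⟶ X) (k : W ⟶ X) [IsOpenImmersion g]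
    [IsOpenImmersion j] [IsOpenImmersion k] (h : g ≫ j = k) :
    Nonempty (DCoh.restrictD k ≅ DCoh.restrictD j ⋙ DCoh.restrictD g) := by
  subst h
  exact ⟨restrictDComp g j⟩

end schemes

end Groth.Agent.H33.Glue
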