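import Mathlib
import Groth.Agent.H33.Glue.MapDComp
import Groth.Agent.H33.LocCoh.PushGamma
import Groth.Agent.H33.LocCoh.OpenEquiv

/-!
# Detecting isomorphisms between derived pushforwards from opens after restriction to an open
-/

set_option autoImplicit false
set_option linter.unusedSectionVars false
universe u
open CategoryTheory CategoryTheory.Limits AlgebraicGeometry Scheme.Modules

attribute [local instance] HasDerivedCategory.standard

namespace Groth.Agent.H33.Glue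

open Groth.Agent.H33.LocCoh

variable {X : Scheme.{u}}

/-- `(Rj_{V*} B)|_U` lies in the essential image of `Rj_{T*}` for every open `T` of `U`
containing `U ∩ V`. -/
lemma exists_iso_Rpush_of_restrictD_Rpush (U V : X.Opens) (T : (U : Scheme.{u}).Opens)
    (hT : ∀ y : (U : Scheme.{u}), U.ι.base y ∈ V → y ∈ T)
    [DCoh.HasRpush V.ι] [DCoh.HasRpush T.ι] (B : DCoh.D (V : Scheme.{u})) :
    ∃ B' : DCoh.D (T : Scheme.{u}),
      Nonempty ((DCoh.restrictD U.ι).obj ((DCoh.Rpush V.ι).obj B) ≅ (DCoh.Rpush T.ι).obj B') := by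
  have := Supp.hasRpush (V.ι ∣_ U)
  obtain ⟨e⟩ := Groth.Agent.H33.SchemeDer.restrictD_Rpush_iso V.ι U
  have h : Set.range (V.ι ∣_ U).base ⊆ Set.range T.ι.base := by
    rintro _ ⟨y, rfl⟩
    rw [Scheme.Opens.range_ι]
    apply hT
    have h1 := congrArg (fun φ => φ.base y) (morphismRestrict_ι V.ι U)
    simp only [Scheme.Hom.comp_base, TopCat.hom_comp, ContinuousMap.comp_apply] at h1
    change U.ι.base ((V.ι ∣_ U).base y) ∈ V
    rw [h1]
    have h2 : V.ι.base ((V.ι ⁻¹ᵁ U).ι.base y) ∈ Set.range V.ι.base := Set.mem_range_self _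
    rw [Scheme.Opens.range_ι] at h2
    exact h2
  have := Supp.hasRpush (jT (V.ι ∣_ U) T h)
  obtain ⟨e2⟩ := nonempty_Rpush_iso_comp (V.ι ∣_ U) T h
  exact ⟨_, ⟨e.app B ≪≫ e2.app _⟩⟩

/-- A morphism `m : M ⟶ N` with `M ≅ Rj_{V*} B` and `N ≅ Rj_{W*} C`, where `U ∩ V ⊆ W ⊆ V`, which
restricts to an isomorphism on `W`, restricts to an isomorphism on `U`. -/
theorem isIso_restrictD_map (U V W : X.Opens) (hWV : W ≤ V) (hUV : U ⊓ V ≤ W)
    [DCoh.HasRpush V.ι] [DCoh.HasRpush W.ι]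
    {M N : DCoh.D X} (B : DCoh.D (V : Scheme.{u})) (eM : M ≅ (DCoh.Rpush V.ι).obj B)
    (C : DCoh.D (W : Scheme.{u})) (eN : N ≅ (DCoh.Rpush W.ι).obj C)
    (m : M ⟶ N) (hm : IsIso ((DCoh.restrictD W.ι).map m)) :
    IsIso ((DCoh.restrictD U.ι).map m) := by
  let T : (U : Scheme.{u}).Opens := U.ι ⁻¹ᵁ V
  have := Supp.hasRpush T.ι
  obtain ⟨B', ⟨e1⟩⟩ := exists_iso_Rpush_of_restrictD_Rpush U V T (fun y hy => hy) B
  obtain ⟨C', ⟨e2⟩⟩ := exists_iso_Rpush_of_restrictD_Rpush U W T (fun y hy => hWV hy) C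
  have hM : IsIso ((dadj T.ι).unit.app ((DCoh.restrictD U.ι).obj M)) :=
    isIso_unit_of_iso_Rpush T.ι (dadj T.ι) ((DCoh.restrictD U.ι).mapIso eM ≪≫ e1)
  have hN : IsIso ((dadj T.ι).unit.app ((DCoh.restrictD U.ι).obj N)) :=
    isIso_unit_of_iso_Rpush T.ι (dadj T.ι) ((DCoh.restrictD U.ι).mapIso eN ≪≫ e2)
  refine isIso_of_isIso_restrictD_of_essImage T.ι _ hM hN ?_
  have hrange : Set.range (T.ι ≫ U.ι).base ⊆ Set.range W.ι.base := by
    rintro _ ⟨y, rfl⟩
    rw [Scheme.Opens.range_ι]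
    apply hUV
    refine ⟨?_, ?_⟩
    · have h2 : U.ι.base (T.ι.base y) ∈ Set.range U.ι.base := Set.mem_range_self _
      rw [Scheme.Opens.range_ι] at h2
      exact h2
    · have h2 : T.ι.base y ∈ Set.range T.ι.base := Set.mem_range_self _
      rw [Scheme.Opens.range_ι] at h2
      exact h2
  let k : (T : Scheme.{u}) ⟶ (W : Scheme.{u}) := IsOpenImmersion.lift W.ι (T.ι ≫ U.ι) hrange
  have hk : k ≫ W.ι = T.ι ≫ U.ι := IsOpenImmersion.lift_fac _ _ _
  have : IsOpenImmersion k := by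
    have : IsOpenImmersion (k ≫ W.ι) := by rw [hk]; infer_instance
    exact IsOpenImmersion.of_comp k W.ι
  obtain ⟨a1⟩ := nonempty_restrictD_iso_of_fac T.ι U.ι (T.ι ≫ U.ι) rfl
  obtain ⟨a2⟩ := nonempty_restrictD_iso_of_fac k W.ι (T.ι ≫ U.ι) hk
  have h3 : IsIso ((DCoh.restrictD W.ι ⋙ DCoh.restrictD k).map m) := by
    rw [Functor.comp_map]
    infer_instance
  have h4 : IsIso ((DCoh.restrictD (T.ι ≫ U.ι)).map m) := (NatIso.isIso_map_iff a2 m).2 h3
  have h5 := (NatIso.isIso_map_iff a1 m).1 h4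
  rw [Functor.comp_map] at h5
  exact h5

end Groth.Agent.H33.Glue
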