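import Mathlib

/-!
# A lemma on distinguished triangles whose second morphism is an isomorphism on a summand
-/

set_option autoImplicit false
open CategoryTheory CategoryTheory.Limits CategoryTheory.Pretriangulated

namespace Groth.Agent.H33.Glue

variable {C : Type*} [Category C] [Preadditive C] [HasZeroObject C] [HasShift C ℤ]
  [∀ n : ℤ, (shiftFunctor C n).Additive] [Pretriangulated C]

/-- If `T.obj₂` is a biproduct of `P'` and `Q'` and the restriction of `T.mor₂` to `Q'` is an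
isomorphism, then `T.obj₁ ⟶ T.obj₂ ⟶ P'` is an isomorphism. -/
lemma isIso_mor₁_comp_fst (T : Triangle C) (hT : T ∈ distTriang C) {P' Q' : C}
    (inl : P' ⟶ T.obj₂) (inr : Q' ⟶ T.obj₂) (fst : T.obj₂ ⟶ P') (snd : T.obj₂ ⟶ Q')
    (h1 : inl ≫ fst = 𝟙 _) (h2 : inr ≫ fst = 0) (h3 : fst ≫ inl + snd ≫ inr = 𝟙 _)
    (hu : IsIso (inr ≫ T.mor₂)) : IsIso (T.mor₁ ≫ fst) := by
  have hsec : (inv (inr ≫ T.mor₂) ≫ inr) ≫ T.mor₂ = 𝟙 _ := by
    rw [Category.assoc, IsIso.inv_hom_id]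
  have hepi : Epi T.mor₂ := epi_of_epi_fac hsec
  have h0 : T.mor₃ = 0 := T.mor₃_eq_zero_of_epi₂ hT hepi
  have hmono : Mono T.mor₁ := (T.mor₃_eq_zero_iff_mono₁ hT).1 h0
  have hz : T.mor₁ ≫ T.mor₂ = 0 := comp_distTriang_mor_zero₁₂ T hT
  obtain ⟨t, ht⟩ := Triangle.coyoneda_exact₂ T hT
    (inl - inl ≫ T.mor₂ ≫ inv (inr ≫ T.mor₂) ≫ inr) (by
      rw [Preadditive.sub_comp]
      simp only [Category.assoc]
      rw [IsIso.inv_hom_id, Category.comp_id, sub_self])
  refine ⟨t, ?_, ?_⟩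
  · rw [← cancel_mono T.mor₁, Category.assoc, Category.assoc, ← ht, Category.id_comp]
    have e1 : T.mor₁ ≫ fst ≫ inl ≫ T.mor₂ = -(T.mor₁ ≫ snd ≫ inr ≫ T.mor₂) := by
      have : T.mor₁ ≫ (fst ≫ inl + snd ≫ inr) ≫ T.mor₂ = 0 := by
        rw [h3, Category.id_comp, hz]
      rw [Preadditive.add_comp, Preadditive.comp_add] at this
      simp only [Category.assoc] at this
      exact eq_neg_of_add_eq_zero_left this
    have e2 : T.mor₁ ≫ fst ≫ inl ≫ T.mor₂ ≫ inv (inr ≫ T.mor₂) ≫ inr =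
        -(T.mor₁ ≫ snd ≫ inr) := by
      have := congrArg (fun x => x ≫ inv (inr ≫ T.mor₂) ≫ inr) e1
      simp only [Category.assoc, Preadditive.neg_comp] at this
      rw [this]
      congr 1
      have h4 : inr ≫ T.mor₂ ≫ inv (inr ≫ T.mor₂) = 𝟙 _ := by
        rw [← Category.assoc, IsIso.hom_inv_id]
      rw [reassoc_of% h4]
    rw [Preadditive.comp_sub, Preadditive.comp_sub, e2, sub_neg_eq_add]
    rw [← Preadditive.comp_add, h3, Category.comp_id]
  · rw [← Category.assoc, ← ht, Preadditive.sub_comp, h1]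
    simp only [Category.assoc, h2, comp_zero, sub_zero]

end Groth.Agent.H33.Glue
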