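import Mathlib
import Groth.Agent.H33.Glue.Restrict
import Groth.Agent.H33.Glue.TriLemma

/-!
# Glueing objects of derived categories on two opens
-/

set_option autoImplicit false
set_option linter.unusedSectionVars false
universe u
open CategoryTheory CategoryTheory.Limits AlgebraicGeometry Scheme.Modules
  CategoryTheory.Pretriangulated

attribute [local instance] HasDerivedCategory.standard

namespace Groth.Agent.H33.Glue

open Groth.Agent.H33.LocCoh

variable {X : Scheme.{u}}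

theorem exists_glue (U V : X.Opens)
    (A : DCoh.D (U : Scheme.{u})) (B : DCoh.D (V : Scheme.{u}))
    (c : (DCoh.restrictD (X.homOfLE (inf_le_left : U ⊓ V ≤ U))).obj A ≅
      (DCoh.restrictD (X.homOfLE (inf_le_right : U ⊓ V ≤ V))).obj B) :
    ∃ F : DCoh.D X, Nonempty ((DCoh.restrictD U.ι).obj F ≅ A) ∧
      Nonempty ((DCoh.restrictD V.ι).obj F ≅ B) := by
  let W : X.Opens := U ⊓ V
  let gU : (W : Scheme.{u}) ⟶ (U : Scheme.{u}) := X.homOfLE (inf_le_left : U ⊓ V ≤ U)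
  let gV : (W : Scheme.{u}) ⟶ (V : Scheme.{u}) := X.homOfLE (inf_le_right : U ⊓ V ≤ V)
  have hgU : gU ≫ U.ι = W.ι := X.homOfLE_ι _
  have hgV : gV ≫ V.ι = W.ι := X.homOfLE_ι _
  have := Supp.hasRpush U.ι
  have := Supp.hasRpush V.ι
  have := Supp.hasRpush W.ι
  obtain ⟨αU⟩ := nonempty_restrictD_iso_of_fac gU U.ι W.ι hgU
  obtain ⟨αV⟩ := nonempty_restrictD_iso_of_fac gV V.ι W.ι hgV
  let AW : DCoh.D (W : Scheme.{u}) := (DCoh.restrictD gU).obj A
  let P : DCoh.D X := (DCoh.Rpush U.ι).obj A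
  let Q : DCoh.D X := (DCoh.Rpush V.ι).obj B
  let R : DCoh.D X := (DCoh.Rpush W.ι).obj AW
  let iP : (DCoh.restrictD W.ι).obj P ≅ AW :=
    αU.app P ≪≫ (DCoh.restrictD gU).mapIso (asIso ((dadj U.ι).counit.app A))
  let iQ : (DCoh.restrictD W.ι).obj Q ≅ AW :=
    αV.app Q ≪≫ (DCoh.restrictD gV).mapIso (asIso ((dadj V.ι).counit.app B)) ≪≫ c.symm
  let p : P ⟶ R := (dadj W.ι).unit.app P ≫ (DCoh.Rpush W.ι).map iP.hom
  let q : Q ⟶ R := (dadj W.ι).unit.app Q ≫ (DCoh.Rpush W.ι).map iQ.hom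
  have hp : IsIso ((DCoh.restrictD W.ι).map p) := by
    have := isIso_restrictD_map_unit W.ι P
    rw [Functor.map_comp]
    infer_instance
  have hq : IsIso ((DCoh.restrictD W.ι).map q) := by
    have := isIso_restrictD_map_unit W.ι Q
    rw [Functor.map_comp]
    infer_instance
  have hqU : IsIso ((DCoh.restrictD U.ι).map q) :=
    isIso_restrictD_map U V W inf_le_right le_rfl B (Iso.refl _) AW (Iso.refl _) q hq
  have hpV : IsIso ((DCoh.restrictD V.ι).map p) :=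
    isIso_restrictD_map V U W inf_le_left (by rw [inf_comm]) A (Iso.refl _) AW (Iso.refl _) p hp
  obtain ⟨F, a, h, hT⟩ := distinguished_cocone_triangle₁ (biprod.desc p q)
  refine ⟨F, ⟨?_⟩, ⟨?_⟩⟩
  · have hT' := (DCoh.restrictD U.ι).map_distinguished _ hT
    have r1 : (DCoh.restrictD U.ι).map (biprod.inl : P ⟶ P ⊞ Q) ≫
        (DCoh.restrictD U.ι).map (biprod.fst : P ⊞ Q ⟶ P) = 𝟙 _ := by
      rw [← Functor.map_comp, biprod.inl_fst, CategoryTheory.Functor.map_id]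
    have r2 : (DCoh.restrictD U.ι).map (biprod.inr : Q ⟶ P ⊞ Q) ≫
        (DCoh.restrictD U.ι).map (biprod.fst : P ⊞ Q ⟶ P) = 0 := by
      rw [← Functor.map_comp, biprod.inr_fst, Functor.map_zero]
    have r3 : (DCoh.restrictD U.ι).map (biprod.fst : P ⊞ Q ⟶ P) ≫
        (DCoh.restrictD U.ι).map (biprod.inl : P ⟶ P ⊞ Q) +
        (DCoh.restrictD U.ι).map (biprod.snd : P ⊞ Q ⟶ Q) ≫
        (DCoh.restrictD U.ι).map (biprod.inr : Q ⟶ P ⊞ Q) = 𝟙 _ := by
      rw [← Functor.map_comp, ← Functor.map_comp, ← Functor.map_add, biprod.total,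
        CategoryTheory.Functor.map_id]
    have r4 : IsIso ((DCoh.restrictD U.ι).map (biprod.inr : Q ⟶ P ⊞ Q) ≫
        (DCoh.restrictD U.ι).map (biprod.desc p q)) := by
      rw [← Functor.map_comp, biprod.inr_desc]
      exact hqU
    have hiso : IsIso ((DCoh.restrictD U.ι).map a ≫
        (DCoh.restrictD U.ι).map (biprod.fst : P ⊞ Q ⟶ P)) :=
      isIso_mor₁_comp_fst _ hT' _ _ _ _ r1 r2 r3 r4
    exact asIso ((DCoh.restrictD U.ι).map a ≫
        (DCoh.restrictD U.ι).map (biprod.fst : P ⊞ Q ⟶ P)) ≪≫ asIso ((dadj U.ι).counit.app A)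
  · have hT' := (DCoh.restrictD V.ι).map_distinguished _ hT
    have r1 : (DCoh.restrictD V.ι).map (biprod.inr : Q ⟶ P ⊞ Q) ≫
        (DCoh.restrictD V.ι).map (biprod.snd : P ⊞ Q ⟶ Q) = 𝟙 _ := by
      rw [← Functor.map_comp, biprod.inr_snd, CategoryTheory.Functor.map_id]
    have r2 : (DCoh.restrictD V.ι).map (biprod.inl : P ⟶ P ⊞ Q) ≫
        (DCoh.restrictD V.ι).map (biprod.snd : P ⊞ Q ⟶ Q) = 0 := by
      rw [← Functor.map_comp, biprod.inl_snd, Functor.map_zero]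
    have r3 : (DCoh.restrictD V.ι).map (biprod.snd : P ⊞ Q ⟶ Q) ≫
        (DCoh.restrictD V.ι).map (biprod.inr : Q ⟶ P ⊞ Q) +
        (DCoh.restrictD V.ι).map (biprod.fst : P ⊞ Q ⟶ P) ≫
        (DCoh.restrictD V.ι).map (biprod.inl : P ⟶ P ⊞ Q) = 𝟙 _ := by
      rw [← Functor.map_comp, ← Functor.map_comp, ← Functor.map_add, add_comm, biprod.total,
        CategoryTheory.Functor.map_id]
    have r4 : IsIso ((DCoh.restrictD V.ι).map (biprod.inl : P ⟶ P ⊞ Q) ≫
        (DCoh.restrictD V.ι).map (biprod.desc p q)) := by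
      rw [← Functor.map_comp, biprod.inl_desc]
      exact hpV
    have hiso : IsIso ((DCoh.restrictD V.ι).map a ≫
        (DCoh.restrictD V.ι).map (biprod.snd : P ⊞ Q ⟶ Q)) :=
      isIso_mor₁_comp_fst _ hT' _ _ _ _ r1 r2 r3 r4
    exact asIso ((DCoh.restrictD V.ι).map a ≫
        (DCoh.restrictD V.ι).map (biprod.snd : P ⊞ Q ⟶ Q)) ≪≫ asIso ((dadj V.ι).counit.app B)

end Groth.Agent.H33.Glue
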